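import Groth.Agent.DiscDegLib.Nondeg
import Groth.Agent.FinCovLib.Trace
import Groth.Agent.FinCovLib.Cover
import Groth.Agent.ProjTwistLib.Lift
import Groth.Agent.VBLib.DualOps
import Groth.Agent.VBLib.DualDeg
import Groth.Agent.VBLib.Deg
import Groth.Agent.IntImage.Spread
import Mathlib.RingTheory.Flat.FaithfullyFlat.Basic

/-!
# The degree of a generically reduced finite flat algebra on a curve is at most zero
-/

set_option autoImplicit false
set_option backward.isDefEq.respectTransparency false
set_option linter.style.haveILetI false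
set_option linter.unusedSectionVars false
set_option maxHeartbeats 1000000

universe u

open CategoryTheory CategoryTheory.Limits AlgebraicGeometry TopologicalSpace Opposite
open Groth.Agent.PullbackMod Groth.Agent.DCohLib Groth.Agent.FinCovLib Groth.Agent.VBLib

noncomputable section

namespace Groth.Agent.DiscDegLib

attribute [local instance] secAlgebra

section Reduced

variable {Y C : Scheme.{u}} (g : Y ⟶ C) [IsFinite g]

theorem germ_eq_zero_of_nilpotent [IsIntegral C] [AlgebraicGeometry.IsReduced (g.fiber (genericPoint C))] {U : Y.Opens} {s : Γ(Y, U)}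
    (hs : IsNilpotent s) {y : Y} (hy : y ∈ U) (hg : g y = genericPoint C) : Y.presheaf.germ U y hy s = 0 := by
  haveI : Flat (C.fromSpecResidueField (genericPoint C)) := by
    haveI : IsIso (C.residue (genericPoint C)) := by
      refine (ConcreteCategory.isIso_iff_bijective _).2 ⟨?_, C.residue_surjective _⟩
      letI : Field (C.presheaf.stalk (genericPoint C)) := inferInstanceAs (Field C.functionField)
      exact RingHom.injective (C.residue (genericPoint C)).hom
    haveI : Flat (C.fromSpecStalk (genericPoint C)) := IntImage.flat_fromSpecStalk _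
    rw [Scheme.fromSpecResidueField]
    infer_instance
  haveI : Flat (g.fiberι (genericPoint C)) := MorphismProperty.pullback_fst _ _ inferInstance
  obtain ⟨z, rfl⟩ : y ∈ Set.range (g.fiberι (genericPoint C)) := by rw [Scheme.Hom.range_fiberι]; exact hg
  let ψ := ((g.fiberι (genericPoint C)).stalkMap z).hom
  have hψ : Function.Injective ψ := by
    letI := ψ.toAlgebra
    haveI : IsLocalHom (algebraMap (Y.presheaf.stalk (g.fiberι (genericPoint C) z)) ((g.fiber (genericPoint C)).presheaf.stalk z)) :=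
      inferInstanceAs (IsLocalHom ψ)
    haveI : Module.Flat (Y.presheaf.stalk (g.fiberι (genericPoint C) z)) ((g.fiber (genericPoint C)).presheaf.stalk z) :=
      Flat.stalkMap (g.fiberι (genericPoint C)) z
    haveI := Module.FaithfullyFlat.of_flat_of_isLocalHom (A := Y.presheaf.stalk (g.fiberι (genericPoint C) z))
      (B := (g.fiber (genericPoint C)).presheaf.stalk z)
    exact FaithfulSMul.algebraMap_injective _ _
  refine hψ ?_
  rw [map_zero]
  exact IsReduced.eq_zero _ ((hs.map (Y.presheaf.germ U _ hy).hom).map ψ)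

end Reduced

section Curve

variable {Y C : Scheme.{u}} (g : Y ⟶ C) [IsFinite g]

local notation "A" => RelSpec.QCAlg.directImage g

theorem nonempty_toModule_iso :
    Nonempty ((RelSpec.QCAlg.directImage g).toModule ≅ (Coh.push g).obj (Coh.structureModule Y)) :=
  ⟨Iso.refl _⟩

variable (hA : FlatMod.IsFinLocFree (RelSpec.QCAlg.directImage g).toModule)

include hA in
theorem eq_zero_of_nilpotent [IsIntegral C] [AlgebraicGeometry.IsReduced (g.fiber (genericPoint C))] {U : C.Opens} (hU : IsAffineOpen U) [Nonempty U]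
    (hF : Framed A U) {s : Sec A U} (hs : IsNilpotent s) : s = 0 := by
  haveI := hF.free
  haveI : Module.Free Γ(C, U) (Sec A U) := hF.free
  have hloc : ∀ y : g ⁻¹ᵁ U, g y.1 = genericPoint C →
      ∃ (V : Y.Opens) (hV : V ≤ g ⁻¹ᵁ U), y.1 ∈ V ∧ Y.presheaf.map (homOfLE hV).op (show Γ(Y, g ⁻¹ᵁ U) from s) = 0 :=
    fun y hy => by
      have h := germ_eq_zero_of_nilpotent g (s := show Γ(Y, g ⁻¹ᵁ U) from s) hs y.2 hy
      obtain ⟨V, hV, i₁, i₂, e⟩ := TopCat.Presheaf.germ_eq Y.presheaf y.1 y.2 y.2 _ 0 (h.trans (map_zero _).symm)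
      exact ⟨V, i₁.le, hV, e.trans (map_zero _)⟩
  let W : Y.Opens := ⨆ (V : Y.Opens) (_ : ∃ hV : V ≤ g ⁻¹ᵁ U, Y.presheaf.map (homOfLE hV).op (show Γ(Y, g ⁻¹ᵁ U) from s) = 0), V
  let Z : Set C := g '' (W : Set Y)ᶜ
  have hZ : IsClosed Z := g.isClosedMap _ W.2.isClosed_compl
  have hη : genericPoint C ∈ U := by
    obtain ⟨x⟩ := ‹Nonempty U›
    exact (genericPoint_specializes x.1).mem_open U.2 x.2
  have hηZ : genericPoint C ∉ Z := by
    rintro ⟨y, hyW, hy⟩
    obtain ⟨V, hV, hyV, e⟩ := hloc ⟨y, show g y ∈ U by rw [hy]; exact hη⟩ hy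
    exact hyW (Opens.mem_iSup.2 ⟨V, Opens.mem_iSup.2 ⟨⟨hV, e⟩, hyV⟩⟩)
  obtain ⟨a, ha, hηa⟩ := hU.exists_basicOpen_le (V := ⟨Zᶜ, hZ.isOpen_compl⟩) ⟨genericPoint C, hηZ⟩ hη
  have hsub : g ⁻¹ᵁ C.basicOpen a ≤ W := fun y hy => by
    by_contra h
    exact ha hy ⟨y, h, rfl⟩
  have h0 : res A (C.basicOpen_le a) s = 0 := by
    refine TopCat.Presheaf.section_ext Y.sheaf (g ⁻¹ᵁ C.basicOpen a) _ _ fun y hy => ?_
    obtain ⟨V, h⟩ := Opens.mem_iSup.1 (hsub hy)
    obtain ⟨⟨hV, e⟩, hyV⟩ := Opens.mem_iSup.1 h
    rw [map_zero]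
    refine (TopCat.Presheaf.germ_res_apply Y.presheaf _ y hy (show Γ(Y, g ⁻¹ᵁ U) from s)).trans ?_
    rw [← TopCat.Presheaf.germ_res_apply Y.presheaf (homOfLE hV) y hyV (show Γ(Y, g ⁻¹ᵁ U) from s), e, map_zero]
  letI : Algebra (Sec A U) (Sec A (C.basicOpen a)) := (res A (C.basicOpen_le a)).toAlgebra
  haveI : IsLocalization.Away ((A).str.app (op U) a : Sec A U) (Sec A (C.basicOpen a)) := (A).isQC U hU a
  obtain ⟨⟨c, n, rfl⟩, hc⟩ := (IsLocalization.map_eq_zero_iff (Submonoid.powers ((A).str.app (op U) a : Sec A U))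
    (Sec A (C.basicOpen a)) s).1 h0
  have hc' : a ^ n • s = 0 := by
    rw [Algebra.smul_def, map_pow]
    exact hc
  refine (smul_eq_zero.1 hc').resolve_left (pow_ne_zero _ fun h => ?_)
  rw [h, Scheme.basicOpen_zero] at hηa
  exact hηa

variable (τ : (RelSpec.QCAlg.directImage g).toModule ⟶ Coh.structureModule C)

/-- The trace pairing. -/
def pairing : ProjTwistLib.Pairing (A).toModule (A).toModule (Coh.structureModule C) where
  f U := AddMonoidHom.mk' (fun a => AddMonoidHom.mk' (fun b => τ.app U ((show Sec A U from a) * (show Sec A U from b) : Sec A U))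
      fun b b' => by
        rw [← map_add]
        exact congrArg (τ.app U) (mul_add (show Sec A U from a) (show Sec A U from b) (show Sec A U from b')))
    fun a a' => AddMonoidHom.ext fun b => by
      show τ.app U _ = τ.app U _ + τ.app U _
      rw [← map_add]
      exact congrArg (τ.app U) (add_mul (show Sec A U from a) (show Sec A U from a') (show Sec A U from b))
  smul_left U r a b := by
    show τ.app U ((algebraMap Γ(C, U) (Sec A U) r * (show Sec A U from a)) * (show Sec A U from b)) = _
    rw [mul_assoc]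
    exact Scheme.Modules.Hom.app_smul τ r _
  smul_right U r a b := by
    show τ.app U ((show Sec A U from a) * (algebraMap Γ(C, U) (Sec A U) r * (show Sec A U from b))) = _
    rw [mul_left_comm]
    exact Scheme.Modules.Hom.app_smul τ r _
  fres {U V} h a b := by
    show τ.app V (res A h (show Sec A U from a) * res A h (show Sec A U from b)) = _
    rw [← map_mul]
    exact app_map h _

include hA in
theorem mono_toDual [IsIntegral C] [AlgebraicGeometry.IsReduced (g.fiber (genericPoint C))]
    (hchar : ∀ U : C.Opens, Nonempty U → CharZero Γ(C, U)) (hτ : FinCov.IsTrace A τ) :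
    Mono (DualInvLib.toDual (pairing g τ).lift) := by
  refine (mono_iff_stalk _).2 fun x => (injective_iff_map_eq_zero _).2 fun μ hμ => ?_
  obtain ⟨O, hxO, b, rfl⟩ := TopCat.Presheaf.exists_germ_eq (A).toModule.presheaf μ
  obtain ⟨W, hW, hxW, hWO, hF⟩ := exists_framed hA hxO
  haveI : Nonempty W := ⟨⟨x, hxW⟩⟩
  have key : ∀ t : Sec A W, tr A W (t * res A hWO (show Sec A O from b)) = 0 := fun t => by
    have h1 := DualInvLib.eval_toDual (pairing g τ).lift x ((A).toModule.presheaf.germ O x hxO b)
    rw [hμ, map_zero] at h1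
    have h2 := LinearMap.congr_fun h1.symm ((A).toModule.presheaf.germ W x hxW t)
    rw [DualInvLib.funAt_apply, LinearMap.zero_apply,
      ← TopCat.Presheaf.germ_res_apply (A).toModule.presheaf (homOfLE hWO) x hxW b] at h2
    erw [stalkTensorHom_tmul] at h2
    erw [ProjTwistLib.Pairing.lift_germ] at h2
    rw [← app_eq_tr hA hτ hF]
    obtain ⟨V, hxV, i₁, i₂, e⟩ := TopCat.Presheaf.germ_eq (Coh.structureModule C).presheaf x hxW hxW _ 0
      (h2.trans (map_zero _).symm)
    haveI : Nonempty V := ⟨⟨x, hxV⟩⟩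
    refine map_injective_of_isIntegral C i₁ ?_
    exact (e.trans (map_zero _)).trans (map_zero _).symm
  clear hμ
  haveI := hF.free
  haveI := hF.finite
  haveI := hchar W inferInstance
  haveI : _root_.IsReduced (Sec A W) := ⟨fun s hs => eq_zero_of_nilpotent g hA hW hF hs⟩
  have h0 := eq_zero_of_trace_mul (R := Γ(C, W)) key
  rw [← TopCat.Presheaf.germ_res_apply (A).toModule.presheaf (homOfLE hWO) x hxW b]
  exact (congrArg _ h0).trans (map_zero _)

end Curve

end Groth.Agent.DiscDegLib
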