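import Mathlib.RingTheory.Trace.Basic
import Mathlib.RingTheory.IntegralClosure.IsIntegralClosure.Basic
import Mathlib.LinearAlgebra.Trace
import Mathlib.RingTheory.Localization.FractionRing

/-!
# The trace form of a reduced free finite algebra over a domain of characteristic zero
-/

set_option autoImplicit false

namespace Groth.Agent.DiscDegLib

/-- An element with `e² = a e` and trace zero vanishes. -/
theorem eq_zero_of_sq_eq {R S : Type*} [CommRing R] [IsDomain R] [CharZero R] [CommRing S] [Algebra R S]
    [Module.Free R S] [Module.Finite R S] {a : R} (ha : a ≠ 0) {e : S} (he : e * e = a • e)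
    (ht : Algebra.trace R S e = 0) : e = 0 := by
  classical
  let ι := Module.Free.ChooseBasisIndex R S
  let b : Module.Basis ι R S := Module.Free.chooseBasis R S
  let K := FractionRing R
  let φ := algebraMap R K
  haveI : CharZero K := charZero_of_injective_algebraMap (IsFractionRing.injective R K)
  let M := Algebra.leftMulMatrix b e
  have hM : M * M = a • M := by rw [← map_mul, he, map_smul]
  let N : Matrix ι ι K := (φ a)⁻¹ • M.map φ
  have hφa : φ a ≠ 0 := (map_ne_zero_iff _ (IsFractionRing.injective R K)).2 ha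
  have hMK : M.map φ * M.map φ = φ a • M.map φ := by
    rw [← Matrix.map_mul, hM]
    ext i j
    simp [φ]
  have hN : IsIdempotentElem N := by
    show N * N = N
    simp only [N, Matrix.smul_mul, Matrix.mul_smul, hMK, smul_smul]
    rw [inv_mul_cancel₀ hφa, mul_one]
  have hL : IsIdempotentElem (Matrix.toLin' N) := by
    show Matrix.toLin' N * Matrix.toLin' N = Matrix.toLin' N
    rw [Module.End.mul_eq_comp, ← Matrix.toLin'_mul, hN.eq]
  have hp := LinearMap.IsProj.trace (LinearMap.IsIdempotentElem.isProj_range _ hL)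
  have htr : LinearMap.trace K _ (Matrix.toLin' N) = 0 := by
    rw [Matrix.trace_toLin'_eq, Matrix.trace_smul, show (M.map φ).trace = φ M.trace from (AddMonoidHom.map_trace φ.toAddMonoidHom M).symm,
      ← Algebra.trace_eq_matrix_trace b, ht, map_zero, smul_zero]
  rw [htr] at hp
  have h0 : Matrix.toLin' N = 0 := by
    rw [← LinearMap.range_eq_bot]
    exact Submodule.finrank_eq_zero.1 (Nat.cast_eq_zero.1 hp.symm)
  have hN0 : N = 0 := Matrix.toLin'.injective (by rw [h0, map_zero])
  have hM0 : M = 0 := Matrix.ext fun i j => IsFractionRing.injective R K (by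
    have := congrFun (congrFun hN0 i) j
    rw [show (0 : Matrix ι ι R) i j = 0 from rfl, map_zero]
    exact (smul_eq_zero.1 (show (φ a)⁻¹ • φ (M i j) = 0 from this)).resolve_left (inv_ne_zero hφa))
  exact Algebra.leftMulMatrix_injective b (hM0.trans (map_zero _).symm)

/-- The trace form is non-degenerate. -/
theorem eq_zero_of_trace_mul {R S : Type*} [CommRing R] [IsDomain R] [CharZero R] [CommRing S] [Algebra R S]
    [Module.Free R S] [Module.Finite R S] [IsReduced S] {s : S} (h : ∀ t, Algebra.trace R S (t * s) = 0) :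
    s = 0 := by
  obtain ⟨p, hp, hps⟩ := Algebra.IsIntegral.isIntegral (R := R) s
  obtain ⟨q, hq, hnd⟩ := p.exists_eq_pow_rootMultiplicity_mul_and_not_dvd hp.ne_zero 0
  rw [map_zero, sub_zero] at hq hnd
  have ha : q.coeff 0 ≠ 0 := fun h0 => hnd (Polynomial.X_dvd_iff.2 h0)
  set n := p.rootMultiplicity 0
  let c : S := Polynomial.aeval s q.divX
  have hqs : Polynomial.aeval s q = s * c + algebraMap R S (q.coeff 0) := by
    conv_lhs => rw [← q.X_mul_divX_add]
    rw [map_add, map_mul, Polynomial.aeval_X, Polynomial.aeval_C]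
  have h0 : s ^ n * Polynomial.aeval s q = 0 := by
    rw [← hps, Polynomial.aeval_def, hq, Polynomial.eval₂_mul, Polynomial.eval₂_pow, Polynomial.eval₂_X]
  have h1 : s * Polynomial.aeval s q = 0 := IsReduced.eq_zero _ ⟨n + 1, by
    rw [mul_pow, pow_succ (Polynomial.aeval s q) n, show s ^ (n + 1) * (Polynomial.aeval s q ^ n * Polynomial.aeval s q) =
      s ^ n * Polynomial.aeval s q * (s * Polynomial.aeval s q ^ n) by ring, h0, zero_mul]⟩
  rw [hqs, mul_add] at h1
  have he : -(s * c) * -(s * c) = q.coeff 0 • -(s * c) := by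
    rw [Algebra.smul_def]
    linear_combination c * h1
  have hz : -(s * c) = 0 := eq_zero_of_sq_eq ha he (by rw [map_neg, mul_comm, h, neg_zero])
  rw [neg_eq_zero] at hz
  rw [hz, mul_zero, zero_add, mul_comm, ← Algebra.smul_def] at h1
  exact (smul_eq_zero.1 h1).resolve_left ha

end Groth.Agent.DiscDegLib
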